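import Cfsg.Agent.N2.SzRee.TI
import Cfsg.Agent.N2.Par.Main
import Cfsg.Agent.H963.ReeFive
import Cfsg.Agent.H947.El.Ree
import Cfsg.Agent.S0813
import Cfsg.Agent.S0144
import Cfsg.Agent.S1073
import Cfsg.Agent.ClassicalGeometry.PSL2Basic

/-!
# N2 (S3519): the row of the small Ree groups (helper30)
-/

set_option autoImplicit false
set_option linter.unusedSectionVars false
set_option maxHeartbeats 200000

namespace Cfsg.Agent.N2.SzRee

open Cfsg Cfsg.Agent.FP3 Subgroup Cfsg.Agent.H963.ReeCtx Cfsg.Agent.H963.ReeSep Cfsg.Agent.H947.El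
open Cfsg.Agent.LieRecognition Cfsg.Agent.H963.ReeSepB

theorem norm_le_of_cyc {G : Type} [Group G] [Finite G] {V E : Subgroup G} (hV : IsCyclic V) (hE : E ≤ V) :
    normalizer (V : Set G) ≤ normalizer (E : Set G) := by
  obtain ⟨a, ha⟩ := hV.exists_generator
  refine le_normalizer_of fun g hg x hx => ?_
  have h1 : g⁻¹ * a * g ∈ V := by
    have := (mem_normalizer_iff.1 ((normalizer (V : Set G)).inv_mem hg) a).1 a.2
    rwa [inv_inv] at this
  obtain ⟨j, hj⟩ := ha ⟨_, h1⟩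
  obtain ⟨i, hi⟩ := ha ⟨x, hE hx⟩
  have hj' : (a : G) ^ j = g⁻¹ * a * g := congrArg Subtype.val hj
  have hi' : (a : G) ^ i = x := congrArg Subtype.val hi
  have e : g⁻¹ * x * g = x ^ j := by
    have e1 : (g⁻¹ * a * g) ^ i = g⁻¹ * (a : G) ^ i * g := by
      simpa using conj_zpow (a := g⁻¹) (b := (a : G)) (i := i)
    rw [← hi', ← e1, ← hj', ← zpow_mul, ← zpow_mul, mul_comm]
  exact e ▸ E.zpow_mem hx j

/-- a non-abelian simple group has a prime divisor greater than three -/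
theorem exists_prime_gt {Y : Type*} [Group Y] [Finite Y] [IsSimpleGroup Y] (hn : ¬ IsMulCommutative Y) :
    ∃ p, p.Prime ∧ 3 < p ∧ p ∣ Nat.card Y := by
  by_contra k
  push Not at k
  obtain ⟨a, u, hu, e⟩ := Nat.exists_eq_pow_mul_and_not_dvd (Nat.card_pos (α := Y)).ne' 2 (by norm_num)
  have h0 : u ≠ 0 := by
    rintro rfl
    exact hu (dvd_zero 2)
  have h1 : u = 3 ^ u.primeFactorsList.length := Nat.eq_prime_pow_of_unique_prime_dvd h0 fun {d} hd hdv => by
    have h2 : d ≠ 2 := by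
      rintro rfl
      exact hu hdv
    have h3 : ¬ 3 < d := fun h => k d hd h (e ▸ hdv.mul_left _)
    have := hd.two_le
    omega
  have hs := S0144.result (G := Y) 2 3 a _ Nat.prime_two Nat.prime_three (by rw [← h1]; exact e)
  exact hn ⟨⟨IsSimpleGroup.comm_iff_isSolvable.2 hs⟩⟩

theorem ree_ar {q r n : ℕ} (h1 : 27 ≤ q) (h2 : 3 * r ≤ q) (h : 9 * n ≤ q ^ 4) :
    (q + r + 1) ^ 3 * n ≤ q ^ 3 * (q - 1) * (q ^ 3 + 1) := by
  have h4 : 2 * (q + r + 1) ≤ 3 * q := by omega
  have h5 : (2 * (q + r + 1)) ^ 3 ≤ (3 * q) ^ 3 := Nat.pow_le_pow_left h4 3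
  have h6 : (2 * (q + r + 1)) ^ 3 * (9 * n) ≤ (3 * q) ^ 3 * q ^ 4 := Nat.mul_le_mul h5 h
  obtain ⟨u, rfl⟩ : ∃ u, q = u + 1 := ⟨q - 1, by omega⟩
  rw [Nat.add_sub_cancel]
  have h7 : (u + 1) ^ 6 * (27 * (u + 1)) ≤ (u + 1) ^ 6 * (72 * u) := Nat.mul_le_mul_left _ (by omega)
  have h8 : 72 * ((u + 1 + r + 1) ^ 3 * n) ≤ 72 * ((u + 1) ^ 3 * u * (u + 1) ^ 3) := by
    calc _ = (2 * (u + 1 + r + 1)) ^ 3 * (9 * n) := by ring
      _ ≤ _ := h6
      _ = (u + 1) ^ 6 * (27 * (u + 1)) := by ring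
      _ ≤ _ := h7
      _ = _ := by ring
  exact (Nat.le_of_mul_le_mul_left h8 (by norm_num)).trans (Nat.mul_le_mul_left _ (Nat.le_succ _))

theorem nine_mul_le {n : ℕ} (h : 3 ≤ n) : 9 * n ≤ 3 ^ n := by
  induction n, h using Nat.le_induction with
  | base => norm_num
  | succ n hn ih => rw [pow_succ]; omega

theorem cube_le {q n : ℕ} (h1 : 27 ≤ q) (h : n ≤ q ^ 3) : 9 * n ≤ q ^ 4 := by
  calc 9 * n ≤ q * q ^ 3 := Nat.mul_le_mul (by omega) h
    _ = q ^ 4 := by ring

theorem exists_prime_of {n : ℕ} (h1 : n ≠ 1) (h2 : ¬ 2 ∣ n) (h3 : ¬ 3 ∣ n) : ∃ p, p.Prime ∧ 3 < p ∧ p ∣ n := by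
  obtain ⟨p, hp, h⟩ := Nat.exists_prime_and_dvd h1
  refine ⟨p, hp, ?_, h⟩
  have := hp.two_le
  by_contra k
  interval_cases p
  exacts [h2 h, h3 h]

variable {G : Type} [Group G] [Finite G] {m : ℕ}

theorem norm_bd (C : Ctx G m) (R : ReeF G m (3 ^ (2 * m + 1)) (3 ^ (m + 1))) {p : ℕ} (hp : p.Prime) (h3 : 3 < p)
    {V : Subgroup G} (hV : IsPGroup p V) (h1 : V ≠ ⊥) :
    Nat.card (normalizer (V : Set G)) ≤ 6 * (3 ^ (2 * m + 1) + 3 ^ (m + 1) + 1) := by
  have : Fact p.Prime := ⟨hp⟩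
  have hd : p ∣ Nat.card V := hV.card_eq_or_dvd.resolve_left fun k => h1 (eq_bot_of_card_eq V k)
  obtain ⟨e, he⟩ := exists_prime_orderOf_dvd_card' p hd
  obtain ⟨B, -, -, h⟩ := R.norm p hp h3 (zpowers (e : G)) (by rw [Nat.card_zpowers, orderOf_coe, he])
  have h4 := card_le_of_le (norm_le_of_cyc (R.cyc p hp h3 V hV) (zpowers_le.2 e.2))
  have h5 := (ar C.hm).q27
  generalize 3 ^ (2 * m + 1) = q at *
  generalize 3 ^ (m + 1) = r at *
  omega

theorem good_big (C : Ctx G m) (R : ReeF G m (3 ^ (2 * m + 1)) (3 ^ (m + 1))) {A : Subgroup G} {p : ℕ} (hp : p.Prime)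
    (h3 : 3 < p) (hd : p ∣ Nat.card A) (h : 9 * Nat.card A ≤ (3 ^ (2 * m + 1)) ^ 4) : Good A := by
  have : Fact p.Prime := ⟨hp⟩
  obtain ⟨S⟩ : Nonempty (Sylow p A) := inferInstance
  have hV : IsPGroup p ((S : Subgroup A).map A.subtype) := S.isPGroup'.map _
  have hd' : p ∣ Nat.card ((S : Subgroup A).map A.subtype) := by
    rw [card_map_subtype]
    exact S.dvd_card_of_dvd_card hd
  have h1 : (S : Subgroup A).map A.subtype ≠ ⊥ := fun k => by
    rw [k, card_bot] at hd'
    exact hp.not_dvd_one hd'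
  have h7 : 7 ≤ p := by
    have h5 : p ≠ 5 := by
      rintro rfl
      exact not5 C (hd.trans A.card_subgroup_dvd_card)
    by_contra k
    interval_cases p
    exacts [absurd hp (by norm_num), h5 rfl, absurd hp (by norm_num)]
  obtain ⟨a, ha⟩ := (R.cyc p hp h3 _ hV).exists_generator
  refine good_of_sylow (map_subtype_le _ a.2) (R := (S : Subgroup A).map A.subtype) (fun x hx => ?_) hp hV ?_
    (c := 3 ^ (2 * m + 1) + 3 ^ (m + 1) + 1) ((norm_bd C R hp h3 hV h1).trans ?_) ?_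
  · obtain ⟨i, hi⟩ := ha ⟨x, hx⟩
    exact ⟨i, congrArg Subtype.val hi⟩
  · rw [relIndex, subgroupOf, comap_map_eq_self_of_injective A.subtype_injective]
    exact S.not_dvd_index
  · have h4 := card_le_of_le (le_inf (le_normalizer (H := (S : Subgroup A).map A.subtype)) (map_subtype_le (S : Subgroup A)))
    have h5 := Nat.le_of_dvd Nat.card_pos hd'
    rw [mul_comm]
    exact Nat.mul_le_mul_left _ (by omega)
  · rw [C.card_G]
    exact ree_ar (ar C.hm).q27 (ar C.hm).sle h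

theorem psl_bd (C : Ctx G m) {F : Type} [Field F] [Fintype F] (hF : Fintype.card F % 8 = 3 ∨ Fintype.card F % 8 = 5)
    (hF5 : 5 ≤ Fintype.card F) (ψ : Matrix.ProjectiveSpecialLinearGroup (Fin 2) F →* G) (hψ : Function.Injective ψ) :
    9 * Nat.card (MulAut (Matrix.ProjectiveSpecialLinearGroup (Fin 2) F)) ≤ (3 ^ (2 * m + 1)) ^ 4 := by
  have A := ar C.hm
  have h27 := A.q27
  have h3s := A.sle
  have hs9 := A.s9'
  obtain ⟨s, hs⟩ := CharP.exists F
  obtain ⟨c, hsp, hc'⟩ := FiniteField.card F s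
  have := Fact.mk hsp
  rw [Cfsg.Agent.S0813.result s c c.2 hc' 2 le_rfl (fun _ => by omega), if_pos rfl,
    ClassicalGeometry.PSL2Basic.card_PGL2, one_mul]
  have key : 9 * (c : ℕ) ≤ 3 ^ (2 * m + 1) ∧ Fintype.card F ≤ 3 ^ (2 * m + 1) := by
    have hs2 : s ≠ 2 := by
      rintro rfl
      have : 2 ∣ Fintype.card F := by
        rw [hc']; exact dvd_pow_self 2 c.ne_zero
      omega
    by_cases hs3 : s = 3
    · subst hs3
      have h38 := pow_three_mod (c : ℕ)
      rw [← hc'] at h38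
      have hq4 : Fintype.card F % 4 = 3 := by omega
      have hT := ReePSL.card_T (K := F) hq4
      obtain ⟨g, hg⟩ := (ReePSL.torus (K := F) hq4).cyc.exists_generator
      have hgo : orderOf g = Nat.card (ReePSL.T F) := orderOf_eq_card_of_forall_mem_zpowers hg
      have hgo' : orderOf (ψ (g : ReePSL.L F)) = Nat.card (ReePSL.T F) := by
        rw [orderOf_injective ψ hψ, Subgroup.orderOf_coe, hgo]
      have hord := C.orders (ψ (g : ReePSL.L F))
      rw [hgo'] at hord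
      have hbd : Nat.card (ReePSL.T F) ≤ 3 ^ (2 * m + 1) + 3 ^ (m + 1) + 1 := by
        rcases hord with h | h | h | h | h | h
        · have := Nat.le_of_dvd (by norm_num) h; omega
        · have := Nat.le_of_dvd (by norm_num) h; omega
        · have := Nat.le_of_dvd (by omega) h; omega
        · have := Nat.le_of_dvd (by omega) h; omega
        · have := Nat.le_of_dvd (by omega) h; omega
        · exact Nat.le_of_dvd (by omega) h
      have hcm : (c : ℕ) ≤ 2 * m + 1 := by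
        by_contra hcm
        have h5 : 3 ^ (2 * m + 1 + 1) ≤ 3 ^ (c : ℕ) := Nat.pow_le_pow_right (by norm_num) (by omega)
        rw [← hc', pow_succ] at h5
        omega
      have h9 := nine_mul_le (n := 2 * m + 1) (by have := C.hm; omega)
      exact ⟨by omega, hc' ▸ Nat.pow_le_pow_right (by norm_num) hcm⟩
    · have hs5 : 5 ≤ s := by
        have := hsp.two_le
        by_contra h
        interval_cases s
        · exact hs2 rfl
        · exact hs3 rfl
        · exact absurd hsp (by norm_num)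
      have h2 := C.psl F s hsp hs5 ψ hψ
      have h3 : (c : ℕ) ≤ 1 := by
        by_contra k
        have h4 : 5 ^ 2 ≤ s ^ (c : ℕ) := (Nat.pow_le_pow_left hs5 2).trans (Nat.pow_le_pow_right (by omega) (by omega))
        omega
      omega
  generalize 3 ^ (2 * m + 1) = q at key
  calc _ = 9 * (c : ℕ) * (Fintype.card F * (Fintype.card F ^ 2 - 1)) := by ring
    _ ≤ q * (q * q ^ 2) := Nat.mul_le_mul key.1 (Nat.mul_le_mul key.2 ((Nat.sub_le _ _).trans (Nat.pow_le_pow_left key.2 2)))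
    _ = q ^ 4 := by ring

theorem sub_bd (C : Ctx G m) {Y : Type} [Group Y] [Finite Y] {l : ℕ} (D : Ctx Y l) (ψ : Y →* G)
    (hψ : Function.Injective ψ) (h : Nat.card Y < Nat.card G) : Nat.card Y ≤ (3 ^ (2 * m + 1)) ^ 3 := by
  have A := ar C.hm
  have B := ar D.hm
  have h1 : l < m := by
    by_contra k
    exact absurd (card_mono C D (Nat.pow_le_pow_right (by norm_num) (by omega))) (not_le.2 h)
  obtain ⟨x, hx⟩ := D.ordq
  have hord := C.orders (ψ x)
  rw [orderOf_injective ψ hψ, hx] at hord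
  have b1 := B.q27
  have b2 := B.q8
  have a2 := A.q8
  have h2 : 2 ∣ 3 ^ (2 * l + 1) - 1 := by omega
  have h3 : 3 ^ (2 * l + 1) - 1 ∣ 3 ^ ((2 * m + 1) * 2) - 1 := by
    have e : 3 ^ ((2 * m + 1) * 2) - 1 = (3 ^ (2 * m + 1) + 1) * (3 ^ (2 * m + 1) - 1) := by
      rw [pow_mul, ← Nat.sq_sub_sq, one_pow]
    rw [e]
    rcases hord with k | k | k | k | k | k
    · have := Nat.le_of_dvd (by norm_num) k; omega
    · have := Nat.le_of_dvd (by norm_num) k; omega
    · exact k.mul_left _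
    · exact (k.trans (Nat.div_dvd_of_dvd (by omega))).mul_right _
    · have := (IsA.facts (m := m) (Or.inl rfl) C.hm).2.2.1
      have := h2.trans k
      omega
    · have := (IsA.facts (m := m) (Or.inr rfl) C.hm).2.2.1
      have := h2.trans k
      omega
  have h4 : 2 * l + 1 ∣ (2 * m + 1) * 2 := by
    have h5 := Nat.pow_sub_one_gcd_pow_sub_one 3 (2 * l + 1) ((2 * m + 1) * 2)
    rw [Nat.gcd_eq_left h3] at h5
    have h6 : 0 < 3 ^ Nat.gcd (2 * l + 1) ((2 * m + 1) * 2) := by positivity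
    have h7 : 3 ^ (2 * l + 1) = 3 ^ Nat.gcd (2 * l + 1) ((2 * m + 1) * 2) := by omega
    exact Nat.gcd_eq_left_iff_dvd.1 (Nat.pow_right_injective (by norm_num) h7).symm
  have h5 : 2 * l + 1 ∣ 2 * m + 1 :=
    (((Nat.Prime.coprime_iff_not_dvd Nat.prime_two).2 (by omega)).symm).dvd_of_dvd_mul_right h4
  obtain ⟨j, hj⟩ := h5
  have hj3 : 3 ≤ j := by
    rcases Nat.lt_or_ge j 3 with k | k
    · interval_cases j <;> omega
    · exact k
  have h6 : (3 ^ (2 * l + 1)) ^ 3 ≤ 3 ^ (2 * m + 1) := by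
    rw [hj, pow_mul 3 (2 * l + 1) j]
    exact Nat.pow_le_pow_right (by positivity) hj3
  rw [D.card_G]
  refine le_trans ?_ (Nat.pow_le_pow_left h6 3)
  generalize 3 ^ (2 * l + 1) = s at b1
  have h7 : s ≤ s ^ 2 := Nat.le_self_pow (by norm_num) s
  have h8 : s ^ 3 + 1 ≤ s ^ 4 := Nat.pow_lt_pow_right (by omega) (by norm_num)
  calc _ ≤ s ^ 3 * s ^ 2 * s ^ 4 := Nat.mul_le_mul (Nat.mul_le_mul_left _ ((Nat.sub_le _ _).trans h7)) h8
    _ = _ := by ring

variable [IsSimpleGroup G] {A : Subgroup G} {Γ : Subgroup (MulAut G)}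

theorem ree_two (C : Ctx G m) (R : ReeF G m (3 ^ (2 * m + 1)) (3 ^ (m + 1))) (h : MI A Γ) (h2 : pCore 2 A ≠ ⊥) :
    Good A := by
  have Ar := ar C.hm
  have a1 := Ar.q27
  have a2 := Ar.q8
  have a3 := Ar.q9
  have := Lib.Cores.pCore_characteristic (G := A) 2
  have hE : IsPGroup 2 ((pCore 2 A).map A.subtype) := (Lib.Cores.pCore_isPGroup 2).map _
  have h1 := map_ne_bot h2
  have hN := mi_norm h (mi_char h (pCore 2 A)) h1 fun k => h.ne_top (top_le_iff.1 (k.ge.trans (map_subtype_le _)))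
  generalize (pCore 2 A).map A.subtype = E at hE h1 hN
  obtain ⟨P, hP⟩ := hE.exists_le_sylow
  have h3 : Nat.card E ∣ 8 := C.card2 P ▸ card_dvd_of_le hP
  have h4 : Nat.card E ≠ 1 := fun k => h1 (eq_bot_of_card_eq E k)
  have h5 : Nat.card E = 2 ∨ Nat.card E = 4 ∨ Nat.card E = 8 := by
    have := Nat.le_of_dvd (by norm_num) h3
    generalize Nat.card E = n at *
    interval_cases n <;> omega
  have h6 : 27 ^ 3 ≤ (3 ^ (2 * m + 1)) ^ 3 := Nat.pow_le_pow_left a1 3
  rcases h5 with k | k | k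
  · obtain ⟨t, ht1, ht⟩ := (Nat.card_eq_two_iff' (1 : E)).1 k
    have ht1' : (t : G) ≠ 1 := fun e => ht1 (Subtype.ext e)
    have hm : ∀ x ∈ E, x = 1 ∨ x = t := fun x hx => by
      by_cases e : (⟨x, hx⟩ : E) = 1
      exacts [Or.inl (congrArg Subtype.val e), Or.inr (congrArg Subtype.val (ht _ e))]
    have e : A = centralizer {(t : G)} := by
      rw [← hN]
      refine le_antisymm (fun g hg => ?_) (le_normalizer_of fun g hg x hx => ?_)
      · rcases hm _ ((mem_normalizer_iff.1 hg t).1 t.2) with e | e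
        · exact absurd (by simpa using e) ht1'
        · exact mem_centralizer_singleton_iff.2 (mul_inv_eq_iff_eq_mul.1 e)
      · rcases hm x hx with rfl | rfl
        · simp
        · rw [mul_assoc, ← mem_centralizer_singleton_iff.1 hg, inv_mul_cancel_left]
          exact t.2
    have hc := C.cardC t ht1' (two_sq C hE t t.2)
    rw [← e] at hc
    obtain ⟨p, hp, p3, pd⟩ := exists_prime_of (n := (3 ^ (2 * m + 1) + 1) / 4) (by omega) (by omega) (by omega)
    refine good_big C R hp p3 ?_ (cube_le a1 ?_)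
    · rw [hc, ← one_pow 2, Nat.sq_sub_sq]
      exact ((pd.trans (Nat.div_dvd_of_dvd (by omega))).mul_right _).mul_left _
    · rw [hc, pow_succ' _ 2]
      exact Nat.mul_le_mul_left _ (Nat.sub_le _ _)
  · have hc := C.four E k (two_sq C hE)
    rw [hN] at hc
    obtain ⟨p, hp, p3, pd⟩ := exists_prime_of (n := (3 ^ (2 * m + 1) + 1) / 4) (by omega) (by omega) (by omega)
    refine good_big C R hp p3 ?_ (cube_le a1 ?_)
    · rw [hc]
      exact (pd.trans (Nat.div_dvd_of_dvd (by omega))).mul_left _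
    · rw [hc, pow_succ' _ 2]
      refine (cent_size a1).2.le.trans (Nat.mul_le_mul_left _ (Nat.sub_le _ _))
  · have e : E = P := eq_of_le_of_card_ge hP (by rw [k, C.card2 P])
    have hc := C.norm2 P
    rw [← e, hN] at hc
    exact good_big C R (p := 7) (by norm_num) (by norm_num) (by rw [hc]; norm_num) (cube_le a1 (by omega))

theorem ree_aux (C : Ctx G m) (R : ReeF G m (3 ^ (2 * m + 1)) (3 ^ (m + 1))) (h : MI A Γ) (h3 : pCore 3 A = ⊥) :
    Good A := by
  have Ar := ar C.hm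
  have a1 := Ar.q27
  have a2 := Ar.sle
  have W := H963.ReeFive.kinds
  have h6 : 27 ^ 3 ≤ (3 ^ (2 * m + 1)) ^ 3 := Nat.pow_le_pow_left a1 3
  by_cases h2 : pCore 2 A = ⊥
  swap
  · exact ree_two C R h h2
  by_cases hf : Fit A
  · have hA : 1 < Nat.card A := (one_lt_card_iff_ne_bot A).2 h.ne_bot
    obtain ⟨Y, hYn, -, hYs, hYna, hcand, h4⟩ := exists_simple C W A hf ⊤ inferInstance (top_ne_bot' hA)
    obtain ⟨p, hp, p3, pd⟩ := exists_prime_gt hYna
    refine good_big C R hp p3 (pd.trans Y.card_subgroup_dvd_card) ?_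
    have hψ : Function.Injective (A.subtype.comp Y.subtype) := A.subtype_injective.comp Y.subtype_injective
    rcases hcand with ⟨F, _, _, hF, ⟨e⟩⟩ | ⟨F, _, _, hF, hF5, ⟨e⟩⟩ | ⟨l, hl⟩
    · have h1 := Cfsg.Agent.SmallSimple.PSLTwoPart.card_psl_two_even (F := F) (by rw [hF]; decide)
      rw [← Nat.card_congr e.toEquiv, hF] at h1
      have h7 := (big_two C A Y hYn (by rw [h1]; norm_num)).1
      rw [h1] at h7
      have h8 := Nat.le_of_dvd (by norm_num) h7
      exact cube_le a1 (by omega)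
    · have h7 := psl_bd C hF hF5 ((A.subtype.comp Y.subtype).comp e.symm.toMonoidHom) (hψ.comp e.symm.injective)
      rw [← Nat.card_congr (MulAut.congr e).toEquiv] at h7
      refine le_trans (Nat.mul_le_mul_left _ ?_) h7
      refine Nat.card_le_card_of_injective (MulAut.conjNormal (H := Y)) ((injective_iff_map_eq_one _).2 fun x hx => ?_)
      refine cent_bot C W A hf Y hYn hYna h4 x fun y hy => ?_
      have h8 : x * y * x⁻¹ = y := by
        have := congrArg Subtype.val (DFunLike.congr_fun hx ⟨y, hy⟩)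
        simpa using this
      exact mul_inv_eq_iff_eq_mul.1 h8
    · have hYt : Y = ⊤ := (big_two C A Y hYn (card_sylow_dvd hl.card2)).2 hl.norm2
      have e : Nat.card Y = Nat.card A := by rw [hYt, card_top]
      refine cube_le a1 (e ▸ sub_bd C hl _ hψ ?_)
      rw [e]
      exact lt_of_le_of_ne A.card_le_card_group fun k => h.ne_top ((card_eq_iff_eq_top A).1 k)
  · simp only [Fit, not_forall] at hf
    obtain ⟨s, hs, M, hMn, hM, hM1⟩ := hf
    have hle : M ≤ pCore s A := le_sSup ⟨hMn, hM⟩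
    have s3 : 3 < s := by
      have := hs.two_le
      by_contra k
      interval_cases s
      exacts [hM1 (le_bot_iff.1 (h2 ▸ hle)), hM1 (le_bot_iff.1 (h3 ▸ hle))]
    have : Fact s.Prime := ⟨hs⟩
    have hd : s ∣ Nat.card M := hM.card_eq_or_dvd.resolve_left fun k => hM1 (eq_bot_of_card_eq M k)
    refine good_big C R hs s3 (hd.trans M.card_subgroup_dvd_card) (cube_le a1 ?_)
    have h7 := (card_le_of_le (le_normalizer_of (map_norm hMn))).trans (norm_bd C R hs s3 (hM.map _) (map_ne_bot hM1))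
    generalize 3 ^ (2 * m + 1) = q at *
    have h8 : 27 * 27 * q ≤ q * q * q := Nat.mul_le_mul_right _ (Nat.mul_le_mul a1 a1)
    have h9 : q ^ 3 = q * q * q := by ring
    omega

/-- **The row of the small Ree groups.** -/
theorem row_ree : Row fRee := by
  rintro T _ _ _ hn ⟨K, _, _, m, hm, hK, ⟨e⟩⟩
  have := e.symm.isSimpleGroup
  have : Fact (Nat.Prime 3) := ⟨Nat.prime_three⟩
  obtain ⟨ρ, n⟩ := exists_reeN m hm
  refine asRow_congr e.symm (Par.asRow_of (p := 3) (S1073.result hm hK).2 ?_ fun A Γ h h3 _ =>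
    ree_aux (H963.ReeFive.ctx_of_equiv hm hK (MulEquiv.refl _)) (reeF hm hK n) h h3)
  exact Or.inr (Or.inr (Or.inr (Or.inr (Or.inr (Or.inr (Or.inr (Or.inr (Or.inr (Or.inr
    ⟨rfl, K, inferInstance, inferInstance, m, hm, hK, ⟨MulEquiv.refl _⟩⟩)))))))))

end Cfsg.Agent.N2.SzRee
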