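import Cfsg.Agent.N2.SzRee.TI
import Cfsg.Agent.H761.SzCls
import Cfsg.Agent.S0330

/-!
# N2 (S3519): the row of the Suzuki groups (helper30)
-/

set_option autoImplicit false
set_option linter.unusedSectionVars false
set_option maxHeartbeats 200000

namespace Cfsg.Agent.N2.SzRee

open Cfsg Cfsg.Agent.FP3 Subgroup Cfsg.Agent.H761.SzCls

variable {F : Type*} [Field F] [Fintype F] {m : ℕ}

/-- the partition of the Suzuki group -/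
def szQ (F : Type*) [Field F] [Fintype F] (m : ℕ) (V : Subgroup (Cfsg.Sz F m)) : Prop :=
  (∃ P : Sylow 2 (Cfsg.Sz F m), V = P) ∨ ∃ i, IsTor V i

theorem szQ_iff {V : Subgroup (Cfsg.Sz F m)} : szQ F m V ↔ ((∃ P : Sylow 2 (Cfsg.Sz F m), V = P) ∨
    (IsCyclic V ∧ Nat.card V ∈ ({2 ^ (2 * m + 1) - 1, 2 ^ (2 * m + 1) + 2 ^ (m + 1) + 1,
      2 ^ (2 * m + 1) - 2 ^ (m + 1) + 1} : Set ℕ))) := by
  rw [mem_set_iff]
  exact or_congr Iff.rfl ⟨fun ⟨i, h⟩ => ⟨h.1, i, h.2⟩, fun ⟨h, i, k⟩ => ⟨i, h, k⟩⟩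

theorem nT_le (i : Fin 3) : nT m i ≤ 2 ^ (2 * m + 1) + 2 ^ (m + 1) + 1 := by
  fin_cases i
  · exact (Nat.sub_le _ _).trans (Nat.le_succ_of_le (Nat.le_add_right _ _))
  · exact le_rfl
  · exact Nat.succ_le_succ ((Nat.sub_le _ _).trans (Nat.le_add_right _ _))

theorem sz_part [IsSimpleGroup (Cfsg.Sz F m)] (hm : 1 ≤ m) (hF : Fintype.card F = 2 ^ (2 * m + 1)) : Part (szQ F m) where
  aut σ V hV := by
    rcases hV with ⟨P, rfl⟩ | ⟨i, hV⟩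
    · exact Or.inl (sylow_im σ P)
    · exact Or.inr ⟨i, cyc_im σ hV.1, (card_im σ V).trans hV.2⟩
  ti U V hU hV x hxU hxV hx := (S2238.result hm hF x hx).unique ⟨szQ_iff.1 hU, hxU⟩ ⟨szQ_iff.1 hV, hxV⟩
  hall V hV := by
    rcases hV with ⟨P, rfl⟩ | ⟨i, hV⟩
    · exact hallN_sylow P
    · refine hallN_of_coprime (c := cT i) (by rw [card_norm hm hF hV, hV.2]) ?_
      rw [hV.2]
      exact Nat.Coprime.coprime_dvd_right (cT_dvd i) (coprime_two hm i 2)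
  ne_top V hV := by
    rcases hV with ⟨P, rfl⟩ | ⟨i, hV⟩
    · intro k
      obtain ⟨U, hU, -⟩ := exists_tor hm hF 0
      exact norm_tor_not_le_borel hm hF hU P (le_top.trans (k.ge.trans le_normalizer))
    · exact fun k => norm_tor_ne_top hm hF hV (top_le_iff.1 (k.ge.trans le_normalizer))

theorem sz_cn (hm : 1 ≤ m) (hF : Fintype.card F = 2 ^ (2 * m + 1)) {a : Cfsg.Sz F m} (h1 : (orderOf a).Prime)
    (h2 : orderOf a ≠ 2) : cn a ≤ 2 ^ (2 * m + 1) + 2 ^ (m + 1) + 1 := by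
  have ha : a ≠ 1 := by
    rintro rfl
    rw [orderOf_one] at h1
    exact Nat.not_prime_one h1
  obtain ⟨V, ⟨hV, haV⟩, -⟩ := S2238.result hm hF a ha
  rcases szQ_iff.2 hV with ⟨P, rfl⟩ | ⟨i, hV⟩
  · obtain ⟨k, hk⟩ := P.isPGroup' ⟨a, haV⟩
    have h3 : a ^ 2 ^ k = 1 := congrArg Subtype.val hk
    exact absurd (prime_two_of_dvd h1 (orderOf_dvd_of_pow_eq_one h3)) h2
  · unfold cn
    rw [hV.cent hm hF haV ha, hV.2]
    exact nT_le i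

theorem sz_ar1 {q t : ℕ} (h2 : 8 ≤ q) (h3 : 2 * t ≤ q) :
    (q + t + 1) ^ 3 ≤ q ^ 2 * (q ^ 2 + 1) := by
  have h4 : 8 * (q + t + 1) ≤ 13 * q := by omega
  have h5 : (8 * (q + t + 1)) ^ 3 ≤ (13 * q) ^ 3 := Nat.pow_le_pow_left h4 3
  have h6 : 8 * q ^ 3 ≤ q * q ^ 3 := Nat.mul_le_mul_right _ h2
  nlinarith [Nat.zero_le (q ^ 2)]

theorem sz_ar2 {q t s : ℕ} (h3 : 2 * t ≤ q) (hs : 8 ≤ s) (h : s ^ 3 ≤ q) :
    (q + t + 1) ^ 3 * (s ^ 2 * (s ^ 2 + 1) * (s - 1)) ≤ q ^ 2 * (q ^ 2 + 1) * (q - 1) := by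
  have h0 : 8 ^ 3 ≤ s ^ 3 := Nat.pow_le_pow_left hs 3
  have h4 : 128 * (q + t + 1) ≤ 193 * q := by omega
  have h5 : (128 * (q + t + 1)) ^ 3 ≤ (193 * q) ^ 3 := Nat.pow_le_pow_left h4 3
  have h6 : (q + t + 1) ^ 3 ≤ 4 * q ^ 3 := by nlinarith [Nat.zero_le (q ^ 3)]
  have h7 : s ^ 2 * (s ^ 2 + 1) * (s - 1) ≤ s ^ 5 := by
    obtain ⟨u, rfl⟩ : ∃ u, s = u + 1 := ⟨s - 1, by omega⟩
    rw [Nat.add_sub_cancel]
    nlinarith [Nat.zero_le (u ^ 2), Nat.zero_le (u ^ 3), Nat.zero_le (u ^ 4), Nat.zero_le u]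
  have h8 : 8 * s ^ 5 ≤ q * q := by
    calc 8 * s ^ 5 ≤ s * s ^ 5 := Nat.mul_le_mul_right _ hs
      _ = s ^ 3 * s ^ 3 := by ring
      _ ≤ q * q := Nat.mul_le_mul h h
  obtain ⟨u, rfl⟩ : ∃ u, q = u + 1 := ⟨q - 1, by omega⟩
  rw [Nat.add_sub_cancel]
  have h9 : 4 * s ^ 5 ≤ (u + 1) * u := by nlinarith
  calc _ ≤ 4 * (u + 1) ^ 3 * s ^ 5 := Nat.mul_le_mul h6 h7
    _ = (u + 1) ^ 3 * (4 * s ^ 5) := by ring
    _ ≤ (u + 1) ^ 3 * ((u + 1) * u) := Nat.mul_le_mul_left _ h9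
    _ = (u + 1) ^ 2 * ((u + 1) ^ 2) * u := by ring
    _ ≤ _ := Nat.mul_le_mul_right _ (Nat.mul_le_mul_left _ (Nat.le_succ _))

theorem sz_row' [IsSimpleGroup (Cfsg.Sz F m)] (hm : 1 ≤ m) (hF : Fintype.card F = 2 ^ (2 * m + 1)) :
    ASRow (Cfsg.Sz F m) := by
  intro A Γ h
  have hQ := sz_part hm hF
  obtain ⟨-, q2, q3, -, -⟩ := qt hm
  by_cases h2 : IsPGroup 2 A
  · obtain ⟨P, hP⟩ := h2.exists_le_sylow
    exact hQ.good h (mi_inv h) h.ne_bot (Or.inl ⟨P, rfl⟩) hP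
  obtain ⟨a, ha, h3, h4⟩ := exists_prime_ne h2
  have h5 := sz_cn hm hF h3 h4
  rcases S2251.result hm hF A h.ne_top with ⟨P, hP⟩ | ⟨V, hV, hVc, hAV⟩ | ⟨K, _, _, k, hk, hkm, hK, hdiv, S, ⟨e⟩, hAS⟩
  · by_cases h6 : A ⊓ (P : Subgroup _) = ⊥
    · have h7 := card_dvd_of_disj (c := 2 ^ (2 * m + 1) - 1)
        (by rw [card_norm_sylow hm hF P, (S0330.result hm hF P).1, mul_comm]) hP h6
      refine good_of_cn ha h5 ?_
      rw [S0324.result hm hF]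
      exact Nat.mul_le_mul (sz_ar1 q2 q3) (Nat.le_of_dvd (by omega) h7)
    · exact hQ.good' h (Or.inl ⟨P, rfl⟩) hP h6
  · obtain ⟨i, hi⟩ := mem_set_iff.1 hVc
    have hV' : IsTor V i := ⟨hV, hi⟩
    by_cases h6 : A ⊓ V = ⊥
    · have h7 := card_dvd_of_disj (c := cT i) (by rw [card_norm hm hF hV', hi]) hAV h6
      exact absurd (prime_two_of_dvd h3 ((orderOf_dvd_natCard A ha).trans (h7.trans (cT_dvd i)))) h4
    · exact hQ.good' h (Or.inr ⟨i, hV'⟩) hAV h6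
  · refine good_of_cn ha h5 ?_
    have h6 := card_le_of_le hAS
    rw [Nat.card_congr e.toEquiv, S0324.result hk hK] at h6
    rw [S0324.result hm hF]
    refine (Nat.mul_le_mul_left _ h6).trans (sz_ar2 q3 (sub_arith hk hkm hdiv).2.2.2 ?_)
    obtain ⟨l, hl⟩ := hdiv
    have hl3 : 3 ≤ l := by
      rcases Nat.lt_or_ge l 3 with h | h
      · interval_cases l <;> omega
      · exact h
    rw [hl, pow_mul 2 (2 * k + 1) l]
    exact Nat.pow_le_pow_right (by positivity) hl3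

/-- **The row of the Suzuki groups.** -/
theorem row_sz : Row fSz := by
  rintro T _ _ _ - ⟨F, _, _, m, hm, hF, ⟨e⟩⟩
  obtain ⟨f⟩ := Cfsg.Agent.OddCyclic.ClaimC.SzIso.iso hm hF
  have g := f.trans e.symm
  have := g.isSimpleGroup
  exact asRow_congr g (sz_row' hm hF)

end Cfsg.Agent.N2.SzRee
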