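import Cfsg.Agent.N2.Tool

/-!
# N2 (S3519): invariant TI subgroups (helper30)
-/

set_option autoImplicit false
set_option linter.unusedSectionVars false
set_option maxHeartbeats 200000

namespace Cfsg.Agent.N2.SzRee

open Cfsg.Agent.FP3 Subgroup

section hall

variable {T : Type*} [Group T] [Finite T]

/-- `V` is a Hall subgroup of its normaliser -/
def HallN (V : Subgroup T) : Prop := ∀ x ∈ normalizer (V : Set T), x ^ Nat.card V = 1 → x ∈ V

theorem hallN_of_coprime {V : Subgroup T} {c : ℕ} (h : Nat.card (normalizer (V : Set T)) = c * Nat.card V)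
    (hc : Nat.Coprime (Nat.card V) c) : HallN V := by
  intro x hx h1
  have hi : (V.subgroupOf (normalizer (V : Set T))).index = c := by
    have e := (V.subgroupOf (normalizer (V : Set T))).index_mul_card
    rw [Nat.card_congr (subgroupOfEquivOfLe (le_normalizer (H := V))).toEquiv, h] at e
    exact Nat.eq_of_mul_eq_mul_right Nat.card_pos e
  have h2 : (⟨x, hx⟩ : normalizer (V : Set T)) ^ c ∈ V.subgroupOf (normalizer (V : Set T)) :=
    hi ▸ pow_index_mem _ (⟨x, hx⟩ : normalizer (V : Set T))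
  have h3 : x ^ c ∈ V := h2
  have h4 : (orderOf x).Coprime c := Nat.Coprime.coprime_dvd_left (orderOf_dvd_of_pow_eq_one h1) hc
  obtain ⟨k, hk⟩ := exists_pow_eq_self_of_coprime h4.symm
  exact hk ▸ V.pow_mem h3 k

theorem hallN_sylow {p : ℕ} [Fact p.Prime] (P : Sylow p T) : HallN (P : Subgroup T) := by
  intro x hx h1
  obtain ⟨n, hn⟩ := IsPGroup.iff_card.1 P.isPGroup'
  have h2 : IsPGroup p (zpowers x) := by
    obtain ⟨k, -, hk⟩ := (Nat.dvd_prime_pow Fact.out).1 (hn ▸ orderOf_dvd_of_pow_eq_one h1 : orderOf x ∣ p ^ n)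
    exact IsPGroup.of_card (by rw [Nat.card_zpowers, hk])
  have h3 := IsPGroup.inf_normalizer_sylow h2 P
  exact (h3.le ⟨mem_zpowers x, hx⟩).2

/-- the image of a subgroup under an automorphism -/
abbrev im (σ : MulAut T) (V : Subgroup T) : Subgroup T := V.map σ.toMonoidHom

theorem card_im (σ : MulAut T) (V : Subgroup T) : Nat.card (im σ V) = Nat.card V :=
  (Nat.card_congr (V.equivMapOfInjective _ σ.injective).toEquiv).symm

theorem cyc_im (σ : MulAut T) {V : Subgroup T} (h : IsCyclic V) : IsCyclic (im σ V) :=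
  isCyclic_of_surjective (V.equivMapOfInjective σ.toMonoidHom σ.injective).toMonoidHom (MulEquiv.surjective _)

theorem sylow_im {p : ℕ} [Fact p.Prime] (σ : MulAut T) (P : Sylow p T) : ∃ Q : Sylow p T, im σ P = Q :=
  ⟨(P.isPGroup'.map σ.toMonoidHom).toSylow (by
    have e1 := (im σ (P : Subgroup T)).index_mul_card
    have e2 := (P : Subgroup T).index_mul_card
    rw [card_im, ← e2] at e1
    rw [Nat.eq_of_mul_eq_mul_right Nat.card_pos e1]
    exact P.not_dvd_index), rfl⟩

end hall

variable {T : Type*} [Group T] [Finite T] [IsSimpleGroup T] {A : Subgroup T} {Γ : Subgroup (MulAut T)}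

/-- A family `Q` of subgroups, closed under automorphisms, any two meeting trivially. -/
structure Part (Q : Subgroup T → Prop) : Prop where
  aut : ∀ (σ : MulAut T) (V : Subgroup T), Q V → Q (im σ V)
  ti : ∀ U V : Subgroup T, Q U → Q V → ∀ x ∈ U, x ∈ V → x ≠ 1 → U = V
  hall : ∀ V : Subgroup T, Q V → HallN V
  ne_top : ∀ V : Subgroup T, Q V → V ≠ ⊤

/-- **TI lemma**: an invariant subgroup `1 ≠ E` inside a member of the family -/
theorem Part.good {Q : Subgroup T → Prop} (hQ : Part Q) (h : MI A Γ) {E V : Subgroup T} (hE : Inv Γ E) (h1 : E ≠ ⊥)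
    (hV : Q V) (hle : E ≤ V) : Good A := by
  obtain ⟨⟨a, ha⟩, ha1⟩ := (Subgroup.ne_bot_iff_exists_ne_one).1 h1
  have ha1' : a ≠ 1 := fun k => ha1 (Subtype.ext k)
  have hi : Inv Γ V := fun σ hσ x hx => by
    have e : im σ V = V := hQ.ti _ _ (hQ.aut σ V hV) hV (σ a) ⟨a, hle ha, rfl⟩ (hle (hE σ hσ a ha))
      (by simpa using ha1')
    exact e ▸ (⟨x, hx, rfl⟩ : σ x ∈ im σ V)
  have hN : normalizer (V : Set T) = A := mi_norm h hi (fun k => h1 (le_bot_iff.1 (k ▸ hle))) (hQ.ne_top V hV)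
  refine good_of_one (hN ▸ le_normalizer (hle ha)) (fx_le_one fun t ht => ?_)
  have h2 : t⁻¹ * a * t ∈ V := hQ.hall V hV _ (hN ▸ ht) (by
    have e : (t⁻¹ * a * t) ^ Nat.card V = t⁻¹ * a ^ Nat.card V * t := by
      simpa using conj_pow (a := t⁻¹) (b := a) (i := Nat.card V)
    have e2 : a ^ Nat.card V = 1 := congrArg Subtype.val (pow_card_eq_one' (x := (⟨a, hle ha⟩ : V)))
    rw [e, e2, mul_one, inv_mul_cancel])
  have e : im (MulAut.conj t) V = V := hQ.ti _ _ (hQ.aut _ V hV) hV a ⟨_, h2, by simp [mul_assoc]⟩ (hle ha) ha1'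
  rw [← hN]
  refine mem_normalizer_iff.2 fun y => ⟨fun hy => e ▸ (⟨y, hy, rfl⟩ : _ ∈ im (MulAut.conj t) V), fun hy => ?_⟩
  rw [← e] at hy
  obtain ⟨z, hz, hz'⟩ := hy
  have : z = y := (MulAut.conj t).injective hz'
  exact this ▸ hz

/-- `A` normalises a member of the family and meets it -/
theorem Part.good' {Q : Subgroup T → Prop} (hQ : Part Q) (h : MI A Γ) {V : Subgroup T} (hV : Q V)
    (hle : A ≤ normalizer (V : Set T)) (h1 : A ⊓ V ≠ ⊥) : Good A := by
  refine hQ.good h (E := A ⊓ V) (fun σ hσ x hx => ?_) h1 hV inf_le_right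
  have h2 := mi_inv h σ hσ x hx.1
  refine ⟨h2, hQ.hall V hV _ (hle h2) ?_⟩
  have e2 : x ^ Nat.card V = 1 := congrArg Subtype.val (pow_card_eq_one' (x := (⟨x, hx.2⟩ : V)))
  rw [← map_pow, e2, map_one]

omit [IsSimpleGroup T] in
/-- `A` normalises `V` and meets it trivially -/
theorem card_dvd_of_disj {V : Subgroup T} {c : ℕ} (h : Nat.card (normalizer (V : Set T)) = c * Nat.card V)
    (hle : A ≤ normalizer (V : Set T)) (h1 : A ⊓ V = ⊥) : Nat.card A ∣ c := by
  have hi : (V.subgroupOf (normalizer (V : Set T))).index = c := by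
    have e := (V.subgroupOf (normalizer (V : Set T))).index_mul_card
    rw [Nat.card_congr (subgroupOfEquivOfLe (le_normalizer (H := V))).toEquiv, h] at e
    exact Nat.eq_of_mul_eq_mul_right Nat.card_pos e
  let f : A →* normalizer (V : Set T) ⧸ V.subgroupOf (normalizer (V : Set T)) :=
    (QuotientGroup.mk' _).comp (inclusion hle)
  have hf : Function.Injective f := (injective_iff_map_eq_one f).2 fun a ha => by
    have h2 : inclusion hle a ∈ V.subgroupOf (normalizer (V : Set T)) := (QuotientGroup.eq_one_iff _).1 ha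
    have h3 : a.1 ∈ A ⊓ V := ⟨a.2, h2⟩
    rw [h1] at h3
    exact Subtype.ext h3
  exact hi ▸ card_dvd_of_injective f hf

omit [IsSimpleGroup T] in
/-- an element of prime order `p ≠ r` in a subgroup which is not an `r`-group -/
theorem exists_prime_ne {r : ℕ} [Fact r.Prime] (h : ¬ IsPGroup r A) : ∃ a ∈ A, (orderOf a).Prime ∧ orderOf a ≠ r := by
  by_contra k
  push Not at k
  refine h (IsPGroup.of_card (n := (Nat.card A).primeFactorsList.length) (Nat.eq_prime_pow_of_unique_prime_dvd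
    Nat.card_pos.ne' fun {d} hd hdv => ?_))
  have : Fact d.Prime := ⟨hd⟩
  obtain ⟨a, ha⟩ := exists_prime_orderOf_dvd_card' d hdv
  have e : orderOf (a : T) = d := by rw [orderOf_coe, ha]
  exact e ▸ k a a.2 (e ▸ hd)

end Cfsg.Agent.N2.SzRee
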